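import Mathlib
import Groth.Prelude
import Groth.Agent.Lib.Helper7.UnivLoc.Model
import Groth.Agent.Lib.Helper7.ProjFlat.Main
import Groth.Agent.Lib.Helper7.InjFib.Basic
import Groth.Agent.Lib.Helper4.RelEffCartier
import Groth.Agent.Lib.Lead.FlatLoc12

/-!
# helper7: toolbox for the fibrewise basis criterion of flatness

Localization lemmas for injective and universally injective maps, flatness of cokernels of
universally injective maps, a Nakayama type injectivity criterion over a flat base, spreading out
of flatness, images of basic opens under flat finitely presented maps, and the main tool: a map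
from a localization of a finite free module over a flat finitely presented algebra with
geometrically integral fibres into a flat localization is universally injective as soon as it is
injective at the generic points of the fibres it meets.
-/

set_option linter.style.haveILetI false
set_option linter.unusedVariables false
set_option linter.unusedSectionVars false
set_option autoImplicit false
set_option backward.isDefEq.respectTransparency.types false
set_option synthInstance.maxHeartbeats 400000
set_option maxHeartbeats 1600000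

universe u

open TensorProduct

namespace Groth.Agent.Helper7.FibBasis

attribute [local instance] Algebra.TensorProduct.rightAlgebra

section Loc

variable {S : Type u} [CommRing S]

/-- injectivity passes to localizations (general form) -/
theorem injective_of_isLocalizedModule (T : Submonoid S) {X₁ X₂ Y₁ Y₂ : Type u}
    [AddCommGroup X₁] [Module S X₁] [AddCommGroup X₂] [Module S X₂]
    [AddCommGroup Y₁] [Module S Y₁] [AddCommGroup Y₂] [Module S Y₂]
    (A₁ : X₁ →ₗ[S] X₂) [IsLocalizedModule T A₁] (A₂ : Y₁ →ₗ[S] Y₂) [IsLocalizedModule T A₂]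
    (L₁ : X₁ →ₗ[S] Y₁) (L₂ : X₂ →ₗ[S] Y₂) (hcomm : ∀ x, L₂ (A₁ x) = A₂ (L₁ x))
    (h : Function.Injective L₁) : Function.Injective L₂ := by
  refine IsLocalizedModule.injective_of_map_zero T A₁ (fun m hm => ?_)
  rw [hcomm] at hm
  obtain ⟨c, hc⟩ := (IsLocalizedModule.eq_zero_iff T A₂).mp hm
  rw [Submonoid.smul_def, ← map_smul] at hc
  have h2 : (c : S) • m = 0 := h (by rw [hc, map_zero])
  exact (IsLocalizedModule.eq_zero_iff T A₁).mpr ⟨c, by rw [Submonoid.smul_def]; exact h2⟩

theorem liftOfLE_mk {M : Type u} [AddCommGroup M] [Module S M] (T₁ T₂ : Submonoid S)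
    (hT : T₁ ≤ T₂) (m : M) (s : T₁) :
    LocalizedModule.liftOfLE T₁ T₂ hT (LocalizedModule.mk m s) =
      LocalizedModule.mk m ⟨s.1, hT s.2⟩ := by
  rw [IsLocalizedModule.mk_eq_mk', IsLocalizedModule.liftOfLE_mk', ← IsLocalizedModule.mk_eq_mk']

theorem map_liftOfLE {M N : Type u} [AddCommGroup M] [Module S M] [AddCommGroup N] [Module S N]
    (l : M →ₗ[S] N) (T₁ T₂ : Submonoid S) (hT : T₁ ≤ T₂) (x : LocalizedModule T₁ M) :
    LocalizedModule.map T₂ l (LocalizedModule.liftOfLE T₁ T₂ hT x) =
      LocalizedModule.liftOfLE T₁ T₂ hT (LocalizedModule.map T₁ l x) := by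
  induction x using LocalizedModule.induction_on with
  | h m s => rw [liftOfLE_mk, LocalizedModule.map_mk, LocalizedModule.map_mk, liftOfLE_mk]

/-- injectivity of a localized map passes to further localizations -/
theorem injective_localization {M N : Type u} [AddCommGroup M] [Module S M] [AddCommGroup N]
    [Module S N] (l : M →ₗ[S] N) (T₁ T₂ : Submonoid S) (hT : T₁ ≤ T₂)
    (h : Function.Injective (LocalizedModule.map T₁ l)) :
    Function.Injective (LocalizedModule.map T₂ l) :=
  injective_of_isLocalizedModule T₂ (LocalizedModule.liftOfLE T₁ T₂ hT)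
    (LocalizedModule.liftOfLE T₁ T₂ hT)
    ((LocalizedModule.map T₁ l).restrictScalars S) ((LocalizedModule.map T₂ l).restrictScalars S)
    (fun x => map_liftOfLE l T₁ T₂ hT x) h

variable {R : Type u} [CommRing R] [Algebra R S]

/-- universal injectivity of a localized map passes to further localizations -/
theorem univInj_localization {M N : Type u} [AddCommGroup M] [Module S M] [Module R M]
    [IsScalarTower R S M] [AddCommGroup N] [Module S N] [Module R N] [IsScalarTower R S N]
    (l : M →ₗ[S] N) (T₁ T₂ : Submonoid S) (hT : T₁ ≤ T₂)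
    (h : ∀ (Q : Type u) [AddCommGroup Q] [Module R Q],
      Function.Injective (((LocalizedModule.map T₁ l).restrictScalars R).lTensor Q))
    (Q : Type u) [AddCommGroup Q] [Module R Q] :
    Function.Injective (((LocalizedModule.map T₂ l).restrictScalars R).lTensor Q) := by
  rw [LinearMap.lTensor_inj_iff_rTensor_inj]
  have h1 := h Q
  rw [LinearMap.lTensor_inj_iff_rTensor_inj] at h1
  have hL1 : Function.Injective (AlgebraTensorModule.rTensor R Q
      ((LocalizedModule.map T₁ l).restrictScalars S)) := fun a b hab => h1 hab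
  have key := injective_of_isLocalizedModule T₂
    (AlgebraTensorModule.rTensor R Q (LocalizedModule.liftOfLE (M := M) T₁ T₂ hT))
    (AlgebraTensorModule.rTensor R Q (LocalizedModule.liftOfLE (M := N) T₁ T₂ hT))
    (AlgebraTensorModule.rTensor R Q ((LocalizedModule.map T₁ l).restrictScalars S))
    (AlgebraTensorModule.rTensor R Q ((LocalizedModule.map T₂ l).restrictScalars S))
    (fun x => by
      induction x using TensorProduct.induction_on with
      | zero => simp only [map_zero]
      | tmul m q =>
        rw [AlgebraTensorModule.rTensor_tmul, AlgebraTensorModule.rTensor_tmul,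
          AlgebraTensorModule.rTensor_tmul, AlgebraTensorModule.rTensor_tmul]
        congr 1
        exact map_liftOfLE l T₁ T₂ hT m
      | add a b ha hb => simp only [map_add, ha, hb]) hL1
  exact fun a b hab => key hab

/-- a linear map which is injective after tensoring with the base ring is injective -/
theorem injective_of_lTensor {X Y : Type u} [AddCommGroup X] [Module R X] [AddCommGroup Y]
    [Module R Y] (f : X →ₗ[R] Y) (h : Function.Injective (f.lTensor R)) :
    Function.Injective f := by
  intro x y hxy
  have h1 : f.lTensor R ((1 : R) ⊗ₜ[R] x) = f.lTensor R ((1 : R) ⊗ₜ[R] y) := by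
    rw [LinearMap.lTensor_tmul, LinearMap.lTensor_tmul, hxy]
  have h2 := congrArg (TensorProduct.lid R X) (h h1)
  rwa [TensorProduct.lid_tmul, TensorProduct.lid_tmul, one_smul, one_smul] at h2

/-- the cokernel of a universally injective map into a flat module is flat -/
theorem flat_of_exact_of_univInj {X₁ X₂ X₃ : Type u} [AddCommGroup X₁] [Module R X₁]
    [AddCommGroup X₂] [Module R X₂] [AddCommGroup X₃] [Module R X₃] (i : X₁ →ₗ[R] X₂)
    (π : X₂ →ₗ[R] X₃) (hπ : Function.Surjective π) (hex : Function.Exact i π) [Module.Flat R X₂]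
    (hi : ∀ (Q : Type u) [AddCommGroup Q] [Module R Q], Function.Injective (i.lTensor Q)) :
    Module.Flat R X₃ := by
  haveI : Module.Flat R (X₂ ⧸ LinearMap.range i) :=
    Groth.Agent.Helper7.InjFib.flat_quotient_range_of_forall_mem i (fun J x hx => by
      rw [← Groth.Agent.Helper7.ProjFlat.one_tmul_eq_zero_iff] at hx ⊢
      apply hi (R ⧸ J)
      rw [LinearMap.lTensor_tmul, hx, map_zero])
  exact Module.Flat.of_linearEquiv (hex.linearEquivOfSurjective hπ).symm

/-- localizations of finite free modules over a flat algebra are flat over the base -/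
theorem flat_localized_pi [Module.Flat R S] (T : Submonoid S) (r : ℕ) :
    Module.Flat R (LocalizedModule T (Fin r → S)) := by
  haveI : Module.Flat R (Fin r → S) := Module.Flat.trans R S (Fin r → S)
  exact Groth.Agent.Lead.FO.flat_of_isLocalizedModule_algebra (R := R) T
    (LocalizedModule.mkLinearMap T (Fin r → S))

/-- a Nakayama type injectivity criterion: a surjection of modules over a local `R`-algebra onto
an `R`-flat module, with finitely generated kernel contained in `rr` times the source, where `rr`
maps into the maximal ideal, is injective -/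
theorem injective_of_flat_of_ker {S' : Type u} [CommRing S'] [IsLocalRing S'] [Algebra R S']
    {F N' : Type u} [AddCommGroup F] [Module S' F] [Module R F] [IsScalarTower R S' F]
    [AddCommGroup N'] [Module S' N'] [Module R N'] [IsScalarTower R S' N'] [Module.Flat R N']
    (β : F →ₗ[S'] N') (hsurj : Function.Surjective β) (hfg : (LinearMap.ker β).FG)
    (rr : Ideal R) (hrr : ∀ a ∈ rr, algebraMap R S' a ∈ IsLocalRing.maximalIdeal S')
    (hker : ∀ x, β x = 0 → x ∈ rr • (⊤ : Submodule R F)) : Function.Injective β := by
  rw [← LinearMap.ker_eq_bot]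
  refine Submodule.eq_bot_of_le_smul_of_le_jacobson_bot (IsLocalRing.maximalIdeal S') _ hfg ?_
    (IsLocalRing.maximalIdeal_le_jacobson ⊥)
  intro k hk
  have hinj : Function.Injective
      (((LinearMap.ker β).subtype.restrictScalars R).lTensor (R ⧸ rr)) :=
    LinearMap.lTensor_injective_of_exact_of_flat (β.restrictScalars R) hsurj
      ((LinearMap.ker β).subtype.restrictScalars R) Subtype.val_injective
      (fun x => ⟨fun hx => ⟨⟨x, LinearMap.mem_ker.mpr hx⟩, rfl⟩,
        fun ⟨y, hy⟩ => hy ▸ LinearMap.mem_ker.mp y.2⟩) (R ⧸ rr)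
  have h1 : (1 : R ⧸ rr) ⊗ₜ[R] (⟨k, hk⟩ : LinearMap.ker β) = 0 := by
    apply hinj
    rw [LinearMap.lTensor_tmul, map_zero, Groth.Agent.Helper7.ProjFlat.one_tmul_eq_zero_iff]
    exact hker k (LinearMap.mem_ker.mp hk)
  rw [Groth.Agent.Helper7.ProjFlat.one_tmul_eq_zero_iff] at h1
  have h2 : ∀ z : LinearMap.ker β, z ∈ rr • (⊤ : Submodule R (LinearMap.ker β)) →
      (z : F) ∈ IsLocalRing.maximalIdeal S' • LinearMap.ker β := by
    intro z hz
    refine Submodule.smul_induction_on hz (fun a ha n _ => ?_) (fun x y hx hy => ?_)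
    · rw [Submodule.coe_smul_of_tower, ← algebraMap_smul S' a (n : F)]
      exact Submodule.smul_mem_smul (hrr a ha) n.2
    · rw [Submodule.coe_add]
      exact add_mem hx hy
  exact h2 ⟨k, hk⟩ h1

end Loc

section Spread

variable {R S : Type u} [CommRing R] [CommRing S] [Algebra R S]

/-- spreading out flatness at a prime to a basic open neighbourhood -/
theorem exists_flat_away [Algebra.FinitePresentation R S] (N : Type u) [AddCommGroup N]
    [Module S N] [Module R N] [IsScalarTower R S N] [Module.FinitePresentation S N] (q : Ideal S)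
    [q.IsPrime] (hq : Module.Flat R (LocalizedModule q.primeCompl N)) :
    ∃ g : S, g ∉ q ∧ Module.Flat R (LocalizedModule (Submonoid.powers g) N) := by
  have hopen := Groth.Agent.Lead.FlatLoc.isOpen_flatLocus_of_finitePresentation
    (R := R) (S := S) (M := N)
  obtain ⟨_, ⟨_, ⟨g, rfl⟩, rfl⟩, hgq, hgU⟩ := PrimeSpectrum.isBasis_basic_opens.exists_subset_of_mem_open
    (a := (⟨q, inferInstance⟩ : PrimeSpectrum S))
    (show _ ∈ {q : PrimeSpectrum S | Module.Flat R (LocalizedModule q.asIdeal.primeCompl N)}
      from hq) hopen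
  refine ⟨g, hgq, ?_⟩
  apply Groth.Agent.Lead.FlatLoc.flat_localizedModule_of_forall_prime (A := R) N
  intro r _ hdisj
  exact hgU (show (⟨r, inferInstance⟩ : PrimeSpectrum S) ∈
    (PrimeSpectrum.basicOpen g : Set (PrimeSpectrum S)) from
      fun hg => Set.disjoint_left.mp hdisj hg (Submonoid.mem_powers g))

/-- a basic open neighbourhood inside the image of a basic open under a flat finitely presented
map -/
theorem exists_basicOpen_subset_image [Algebra.FinitePresentation R S] [Module.Flat R S] (w : S)
    (P₀ : Ideal S) [P₀.IsPrime] (hw : w ∉ P₀) (rr : Ideal R) [rr.IsPrime] [P₀.LiesOver rr] :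
    ∃ f : R, f ∉ rr ∧ ∀ (p : Ideal R) [p.IsPrime], f ∉ p →
      ∃ (Q : Ideal S) (_ : Q.IsPrime), Q.LiesOver p ∧ w ∉ Q := by
  haveI : Algebra.HasGoingDown R S := Algebra.HasGoingDown.of_flat
  have hopen := PrimeSpectrum.isOpenMap_comap_of_hasGoingDown_of_finitePresentation
    (R := R) (S := S)
  have hU : IsOpen (PrimeSpectrum.comap (algebraMap R S) ''
      (PrimeSpectrum.basicOpen w : Set (PrimeSpectrum S))) :=
    hopen _ (PrimeSpectrum.basicOpen w).2
  have hmem : (⟨rr, inferInstance⟩ : PrimeSpectrum R) ∈
      PrimeSpectrum.comap (algebraMap R S) ''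
        (PrimeSpectrum.basicOpen w : Set (PrimeSpectrum S)) := by
    refine ⟨⟨P₀, inferInstance⟩, hw, ?_⟩
    apply PrimeSpectrum.ext
    exact (Ideal.LiesOver.over (p := rr) (P := P₀)).symm
  obtain ⟨_, ⟨_, ⟨f, rfl⟩, rfl⟩, hfrr, hfU⟩ :=
    PrimeSpectrum.isBasis_basic_opens.exists_subset_of_mem_open hmem hU
  refine ⟨f, hfrr, fun p _ hfp => ?_⟩
  obtain ⟨Q, hQw, hQp⟩ := hfU (show (⟨p, inferInstance⟩ : PrimeSpectrum R) ∈
    (PrimeSpectrum.basicOpen f : Set (PrimeSpectrum R)) from hfp)
  refine ⟨Q.asIdeal, Q.2, ⟨?_⟩, hQw⟩
  have := congrArg PrimeSpectrum.asIdeal hQp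
  exact this.symm

end Spread

end Groth.Agent.Helper7.FibBasis
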