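import Mathlib
import Groth.Prelude
import Groth.Agent.Lib.Helper7.FibBasis.Basic

/-!
# helper7: fibrewise injectivity at generic points of fibres and universal injectivity

The main tool for the fibrewise basis criterion of flatness: a map from a localization of a
finite free module over a flat finitely presented algebra with geometrically integral fibres
into a flat localization of a module is universally injective as soon as the underlying map of
modules is injective after base change to the function fields of the fibres which the source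
meets.
-/

set_option linter.style.haveILetI false
set_option linter.unusedVariables false
set_option linter.unusedSectionVars false
set_option autoImplicit false
set_option backward.isDefEq.respectTransparency.types false
set_option synthInstance.maxHeartbeats 400000
set_option maxHeartbeats 1600000

universe u

open TensorProduct

namespace Groth.Agent.Helper7.FibBasis

attribute [local instance] Algebra.TensorProduct.rightAlgebra

section General

variable {S : Type u} [CommRing S]

/-- an element of the base acting invertibly on `L` acts invertibly on `L ⊗ V` -/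
theorem isUnit_end_tensor (L : Type u) [CommRing L] [Algebra S L] (V : Type u) [AddCommGroup V]
    [Module S V] (t : S) (ht : IsUnit (algebraMap S L t)) :
    IsUnit (algebraMap S (Module.End S (L ⊗[S] V)) t) := by
  obtain ⟨w, hw⟩ := ht
  rw [Module.End.isUnit_iff]
  constructor
  · intro a b hab
    simp only [Module.algebraMap_end_apply] at hab
    have h1 : (w : L) • a = (w : L) • b := by
      rw [hw, algebraMap_smul, algebraMap_smul]
      exact hab
    have h2 := congrArg (fun z => (↑w⁻¹ : L) • z) h1
    simpa [smul_smul] using h2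
  · intro b
    refine ⟨(↑w⁻¹ : L) • b, ?_⟩
    rw [Module.algebraMap_end_apply, ← algebraMap_smul L t, ← hw, smul_smul, Units.mul_inv,
      one_smul]

/-- coordinates of a vector whose class in `L ⊗ S^r` vanishes map to zero in `L` -/
theorem algebraMap_eq_zero_of_one_tmul (L : Type u) [CommRing L] [Algebra S L] {r : ℕ}
    (y : Fin r → S) (h : (1 : L) ⊗ₜ[S] y = 0) (i : Fin r) : algebraMap S L (y i) = 0 := by
  have h1 : TensorProduct.rid S L
      ((LinearMap.proj i : (Fin r → S) →ₗ[S] S).lTensor L ((1 : L) ⊗ₜ[S] y)) = 0 := by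
    rw [h, map_zero, map_zero]
  rw [LinearMap.lTensor_tmul, TensorProduct.rid_tmul, LinearMap.proj_apply, Algebra.smul_def,
    mul_one] at h1
  exact h1

/-- if a localization of `α` is bijective, then `α` is injective after base change to any
algebra in which the multiplicative set becomes invertible -/
theorem baseChange_injective_of_bijective {N : Type u} [AddCommGroup N] [Module S N] {r : ℕ}
    (α : (Fin r → S) →ₗ[S] N) (T : Submonoid S)
    (hbij : Function.Bijective (LocalizedModule.map T α)) (L : Type u) [CommRing L] [Algebra S L]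
    (hT : ∀ t ∈ T, IsUnit (algebraMap S L t)) : Function.Injective (α.baseChange L) := by
  have hunits : ∀ t : T, IsUnit (algebraMap S (Module.End S (L ⊗[S] (Fin r → S))) t) :=
    fun t => isUnit_end_tensor L (Fin r → S) t.1 (hT t.1 t.2)
  obtain ⟨ρ, hρ⟩ : ∃ ρ : LocalizedModule T (Fin r → S) →ₗ[S] L ⊗[S] (Fin r → S),
      ∀ y, ρ (LocalizedModule.mk y 1) = (1 : L) ⊗ₜ[S] y :=
    ⟨LocalizedModule.lift T (TensorProduct.mk S L (Fin r → S) 1) hunits, fun y => by
      rw [LocalizedModule.lift_mk_one]
      rfl⟩
  let e := LinearEquiv.ofBijective ((LocalizedModule.map T α).restrictScalars S) hbij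
  obtain ⟨δ, hδ⟩ : ∃ δ : N →ₗ[S] L ⊗[S] (Fin r → S), ∀ y, δ (α y) = (1 : L) ⊗ₜ[S] y := by
    refine ⟨ρ ∘ₗ e.symm.toLinearMap ∘ₗ LocalizedModule.mkLinearMap T N, fun y => ?_⟩
    have h1 : e (LocalizedModule.mk y 1) = LocalizedModule.mk (α y) 1 :=
      LocalizedModule.map_mk T α y 1
    rw [LinearMap.comp_apply, LinearMap.comp_apply, LocalizedModule.mkLinearMap_apply,
      LinearEquiv.coe_coe, ← h1, e.symm_apply_apply, hρ]
  apply Function.LeftInverse.injective (g := LinearMap.liftBaseChange L δ)
  intro z
  induction z using TensorProduct.induction_on with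
  | zero => simp only [map_zero]
  | tmul c y =>
    rw [LinearMap.baseChange_tmul, LinearMap.liftBaseChange_tmul, hδ, TensorProduct.smul_tmul',
      smul_eq_mul, mul_one]
  | add a b ha hb => rw [map_add, map_add, ha, hb]

/-- surjectivity at a prime of a map from a finite free module to a finite module, from
surjectivity after base change to the residue field -/
theorem localizedMap_surjective_of_baseChange (P : Ideal S) [P.IsPrime] {N : Type u}
    [AddCommGroup N] [Module S N] [Module.Finite S N] {r : ℕ} (α : (Fin r → S) →ₗ[S] N)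
    (h : Function.Surjective (α.baseChange P.ResidueField)) :
    Function.Surjective (LocalizedModule.map P.primeCompl α) := by
  have hπ : Function.Surjective (LinearMap.range α).mkQ := Submodule.mkQ_surjective _
  have hC : Subsingleton (P.ResidueField ⊗[S] (N ⧸ LinearMap.range α)) := by
    refine subsingleton_of_forall_eq 0 (fun z => ?_)
    obtain ⟨w, rfl⟩ := LinearMap.lTensor_surjective P.ResidueField hπ z
    obtain ⟨v, rfl⟩ := h w
    rw [LinearMap.baseChange_eq_ltensor, ← LinearMap.comp_apply, ← LinearMap.lTensor_comp,
      LinearMap.range_mkQ_comp, LinearMap.lTensor_zero, LinearMap.zero_apply]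
  have hsupp : (⟨P, inferInstance⟩ : PrimeSpectrum S) ∉
      Module.support S (N ⧸ LinearMap.range α) := by
    rw [Module.mem_support_iff_nontrivial_residueField_tensorProduct,
      not_nontrivial_iff_subsingleton]
    exact hC
  rw [Module.notMem_support_iff'] at hsupp
  intro x
  induction x using LocalizedModule.induction_on with
  | h n t =>
    obtain ⟨s, hs, hsn⟩ := hsupp (Submodule.Quotient.mk n)
    rw [← Submodule.Quotient.mk_smul, Submodule.Quotient.mk_eq_zero] at hsn
    obtain ⟨y, hy⟩ := hsn
    refine ⟨LocalizedModule.mk y (⟨s, hs⟩ * t), ?_⟩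
    rw [LocalizedModule.map_mk, hy]
    exact LocalizedModule.mk_cancel_common_left ⟨s, hs⟩ t n

/-- existence of a map from a finite free module inducing a bijection at the residue field of a
prime -/
theorem exists_bijective_baseChange (P : Ideal S) [P.IsPrime] (N : Type u) [AddCommGroup N]
    [Module S N] [Module.Finite S N] :
    ∃ (r : ℕ) (α : (Fin r → S) →ₗ[S] N), Function.Bijective (α.baseChange P.ResidueField) := by
  classical
  have hs : Submodule.span P.ResidueField
      (Set.range (TensorProduct.mk S P.ResidueField N 1)) = ⊤ := by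
    have h1 := Submodule.baseChange_top (R := S) (M := N) (A := P.ResidueField)
    rw [Submodule.baseChange_eq_span, Submodule.map_top, LinearMap.coe_range] at h1
    exact h1
  obtain ⟨b, hbs, hbspan, hbli⟩ := exists_linearIndependent P.ResidueField
    (Set.range (TensorProduct.mk S P.ResidueField N 1))
  haveI : Finite b := (LinearIndependent.setFinite hbli).to_subtype
  let e : Fin (Nat.card b) ≃ b := (Finite.equivFin b).symm
  have hmem : ∀ i, ∃ n : N, (1 : P.ResidueField) ⊗ₜ[S] n = ((e i : b) : P.ResidueField ⊗[S] N) :=
    fun i => hbs (e i).2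
  choose n hn using hmem
  have hli : LinearIndependent P.ResidueField
      (fun i => (1 : P.ResidueField) ⊗ₜ[S] n i) := by
    have hfun : (fun i => (1 : P.ResidueField) ⊗ₜ[S] n i) = Subtype.val ∘ e := funext hn
    rw [hfun]
    exact hbli.comp e e.injective
  have hspan : ⊤ ≤ Submodule.span P.ResidueField
      (Set.range (fun i => (1 : P.ResidueField) ⊗ₜ[S] n i)) := by
    have hr : Set.range (fun i => (1 : P.ResidueField) ⊗ₜ[S] n i) = b := by
      have : (fun i => (1 : P.ResidueField) ⊗ₜ[S] n i) = Subtype.val ∘ e := funext hn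
      rw [this, Set.range_comp, e.range_eq_univ, Set.image_univ, Subtype.range_coe]
    rw [hr, hbspan, hs]
  let α : (Fin (Nat.card b) → S) →ₗ[S] N := (Pi.basisFun S (Fin (Nat.card b))).constr ℕ n
  refine ⟨Nat.card b, α, ?_⟩
  let B := (Pi.basisFun S (Fin (Nat.card b))).baseChange P.ResidueField
  let B' := Module.Basis.mk hli hspan
  have hαB : α.baseChange P.ResidueField = (B.equiv B' (Equiv.refl _)).toLinearMap := by
    apply B.ext
    intro i
    rw [LinearEquiv.coe_coe, Module.Basis.equiv_apply, Module.Basis.baseChange_apply,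
      LinearMap.baseChange_tmul, Module.Basis.constr_basis, Equiv.refl_apply,
      Module.Basis.mk_apply]
  rw [hαB]
  exact (B.equiv B' (Equiv.refl _)).bijective

end General

section Fibre

variable {R S : Type u} [CommRing R] [CommRing S] [Algebra R S]

/-- fibres of a ring map with geometrically integral fibres are domains (as in helper8's
library) -/
theorem isDomain_fiber (hfib : FlatCA.GeomIntegralFibres R S) (p : Ideal R) [p.IsPrime] :
    IsDomain (p.Fiber S) := by
  have hpush := CommRingCat.isPushout_tensorProduct R p.ResidueField S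
  have hpull := AlgebraicGeometry.isPullback_SpecMap_of_isPushout _ _ _ _ hpush
  have h1 := hfib.geometrically_isIntegral
    (AlgebraicGeometry.Spec.map (CommRingCat.ofHom (algebraMap R p.ResidueField))) _ _ hpull.flip
  exact (AlgebraicGeometry.affine_isIntegral_iff _).mp h1

/-- every prime over `p` contains the kernel of the map to the fibre (as in helper8's library) -/
theorem comap_bot_le_of_liesOver (p : Ideal R) [p.IsPrime] (Q : Ideal S) [Q.IsPrime]
    [Q.LiesOver p] :
    (⊥ : Ideal (p.Fiber S)).comap
      (Algebra.TensorProduct.includeRight (R := R) (A := p.ResidueField) (B := S)).toRingHom ≤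
        Q := by
  let q : p.primesOver S := ⟨Q, ⟨inferInstance, inferInstance⟩⟩
  have h := (PrimeSpectrum.primesOverOrderIsoFiber R S p).symm_apply_apply q
  have h' : ((PrimeSpectrum.primesOverOrderIsoFiber R S p) q).asIdeal.comap
      (Algebra.TensorProduct.includeRight (R := R) (A := p.ResidueField) (B := S)) = Q := by
    have := congrArg Subtype.val h
    rw [PrimeSpectrum.coe_primesOverOrderIsoFiber_symm_apply] at this
    exact this
  rw [← h']
  exact Ideal.comap_mono bot_le

/-- elements outside a prime over `p` do not vanish in the fibre over `p` -/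
theorem one_tmul_ne_zero (p : Ideal R) [p.IsPrime] (Q : Ideal S) [Q.IsPrime] [Q.LiesOver p]
    (t : S) (ht : t ∉ Q) : (1 : p.ResidueField) ⊗ₜ[R] t ≠ 0 := by
  intro h0
  exact ht (comap_bot_le_of_liesOver p Q (by
    rw [Ideal.mem_comap, Ideal.mem_bot]
    exact h0))

/-- elements not vanishing in a domain fibre are invertible in its function field -/
theorem isUnit_algebraMap_fractionRing (p : Ideal R) [p.IsPrime] [IsDomain (p.Fiber S)] (t : S)
    (ht : (1 : p.ResidueField) ⊗ₜ[R] t ≠ 0) :
    IsUnit (algebraMap S (FractionRing (p.Fiber S)) t) := by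
  apply IsUnit.mk0
  rw [IsScalarTower.algebraMap_apply S (p.Fiber S) (FractionRing (p.Fiber S))]
  intro h0
  apply ht
  have := (IsFractionRing.injective (p.Fiber S) (FractionRing (p.Fiber S)))
    (h0.trans (map_zero _).symm)
  exact this

/-- going down for flat algebras -/
theorem exists_le_liesOver [Module.Flat R S] (p rr : Ideal R) [p.IsPrime] [rr.IsPrime]
    (hle : p ≤ rr) (Q : Ideal S) [Q.IsPrime] [Q.LiesOver rr] :
    ∃ Q' : Ideal S, Q' ≤ Q ∧ Q'.IsPrime ∧ Q'.LiesOver p := by
  haveI : Algebra.HasGoingDown R S := Algebra.HasGoingDown.of_flat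
  exact Ideal.exists_ideal_le_liesOver_of_le (p := p) (q := rr) Q hle

/-- scalars of the residue field can be moved to the right up to an invertible scalar -/
theorem exists_mul_algebraMap_eq (p : Ideal R) [p.IsPrime] (c : p.ResidueField) :
    ∃ a b : R, b ∉ p ∧ c * algebraMap R p.ResidueField b = algebraMap R p.ResidueField a := by
  obtain ⟨c', rfl⟩ := IsLocalRing.residue_surjective c
  obtain ⟨⟨a, b⟩, rfl⟩ := IsLocalization.mk'_surjective p.primeCompl c'
  refine ⟨a, b.1, b.2, ?_⟩
  rw [IsScalarTower.algebraMap_apply R (Localization.AtPrime p) p.ResidueField,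
    IsScalarTower.algebraMap_apply R (Localization.AtPrime p) p.ResidueField,
    IsLocalRing.ResidueField.algebraMap_eq, ← map_mul, IsLocalization.mk'_spec]

/-- every element of the fibre of a module is a pure tensor with an invertible scalar -/
theorem exists_inv_tmul (p : Ideal R) [p.IsPrime] {X : Type u} [AddCommGroup X] [Module R X]
    (z : p.ResidueField ⊗[R] X) :
    ∃ (b : R) (x : X), b ∉ p ∧ z = (algebraMap R p.ResidueField b)⁻¹ ⊗ₜ[R] x := by
  induction z using TensorProduct.induction_on with
  | zero =>
    exact ⟨1, 0, (Ideal.ne_top_iff_one p).mp (Ideal.IsPrime.ne_top ‹_›),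
      (TensorProduct.tmul_zero _ _).symm⟩
  | tmul c x =>
    obtain ⟨a, b, hb, hab⟩ := exists_mul_algebraMap_eq p c
    have hb0 : algebraMap R p.ResidueField b ≠ 0 :=
      fun h => hb (Ideal.algebraMap_residueField_eq_zero.mp h)
    refine ⟨b, a • x, hb, ?_⟩
    have hc : c = a • (algebraMap R p.ResidueField b)⁻¹ := by
      rw [Algebra.smul_def, ← hab, mul_assoc, mul_inv_cancel₀ hb0, mul_one]
    rw [hc, TensorProduct.smul_tmul]
  | add z₁ z₂ h₁ h₂ =>
    obtain ⟨b₁, x₁, hb₁, rfl⟩ := h₁
    obtain ⟨b₂, x₂, hb₂, rfl⟩ := h₂
    have h10 : algebraMap R p.ResidueField b₁ ≠ 0 :=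
      fun h => hb₁ (Ideal.algebraMap_residueField_eq_zero.mp h)
    have h20 : algebraMap R p.ResidueField b₂ ≠ 0 :=
      fun h => hb₂ (Ideal.algebraMap_residueField_eq_zero.mp h)
    refine ⟨b₁ * b₂, b₂ • x₁ + b₁ • x₂, ?_, ?_⟩
    · intro h
      rcases Ideal.IsPrime.mem_or_mem ‹_› h with h | h
      · exact hb₁ h
      · exact hb₂ h
    · have e1 : b₂ • (algebraMap R p.ResidueField (b₁ * b₂))⁻¹ =
          (algebraMap R p.ResidueField b₁)⁻¹ := by
        rw [Algebra.smul_def, map_mul, mul_inv, mul_left_comm, mul_inv_cancel₀ h20, mul_one]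
      have e2 : b₁ • (algebraMap R p.ResidueField (b₁ * b₂))⁻¹ =
          (algebraMap R p.ResidueField b₂)⁻¹ := by
        rw [Algebra.smul_def, map_mul, mul_inv, ← mul_assoc, mul_inv_cancel₀ h10, one_mul]
      rw [TensorProduct.tmul_add, ← TensorProduct.smul_tmul, ← TensorProduct.smul_tmul, e1, e2]

/-- a vector with coordinates vanishing in the fibre vanishes in the fibre -/
theorem one_tmul_pi_eq_zero (κ : Type u) [CommRing κ] [Algebra R κ] {r : ℕ} (y : Fin r → S)
    (h : ∀ i, (1 : κ) ⊗ₜ[R] y i = 0) : (1 : κ) ⊗ₜ[R] y = 0 := by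
  classical
  have hy : (∑ i, (LinearMap.single R (fun _ : Fin r => S) i) (y i)) = y := by
    simp only [LinearMap.coe_single]
    exact Finset.univ_sum_single y
  rw [← hy, TensorProduct.tmul_sum]
  refine Finset.sum_eq_zero (fun i _ => ?_)
  have := congrArg ((LinearMap.single R (fun _ : Fin r => S) i).lTensor κ) (h i)
  rwa [LinearMap.lTensor_tmul, map_zero] at this

/-- a vector with coordinates in the extension of an ideal lies in the ideal times the module -/
theorem mem_smul_top_pi (rr : Ideal R) {r : ℕ} (y : Fin r → S)
    (h : ∀ i, y i ∈ rr.map (algebraMap R S)) : y ∈ rr • (⊤ : Submodule R (Fin r → S)) := by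
  classical
  rw [← Groth.Agent.Helper7.InjFib.mem_map_smul_top_iff (S := S), pi_eq_sum_univ y]
  exact Submodule.sum_mem _ (fun i _ => Submodule.smul_mem_smul (h i) Submodule.mem_top)

/-- universal injectivity of a fibrewise injective map from a flat localization of a finitely
presented module into a flat module (a variant of the main theorem of the `UnivLoc` library) -/
theorem univInj_of_isLocalizedModule [Algebra.FinitePresentation R S] (T : Submonoid S)
    (N'' : Type u) [AddCommGroup N''] [Module S N''] [Module.FinitePresentation S N'']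
    (N : Type u) [AddCommGroup N] [Module S N] [Module R N] [IsScalarTower R S N]
    (g : N'' →ₗ[S] N) [IsLocalizedModule T g] [Module.Flat R N]
    (M : Type u) [AddCommGroup M] [Module R M] [Module.Flat R M] (u : N →ₗ[R] M)
    (h : ∀ (p : Ideal R) [p.IsPrime], Function.Injective (u.lTensor p.ResidueField))
    (Q : Type u) [AddCommGroup Q] [Module R Q] : Function.Injective (u.lTensor Q) := by
  obtain ⟨R₀, hR₀, B₀, _, _, _, _, N₀, _, _, _, _, f₀, hfp, hfin, hpush, hbc⟩ :=
    Groth.Agent.Helper3.ColimFlat.exists_model R S N''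
  haveI : Algebra.FiniteType ℤ R₀ := (Subalgebra.fg_iff_finiteType R₀).mp hR₀
  haveI : IsNoetherianRing R₀ := Algebra.FiniteType.isNoetherianRing ℤ R₀
  exact Groth.Agent.Helper7.UnivLoc.core (A₀ := R₀) f₀ hbc T g u
    (Groth.Agent.Helper7.UnivLoc.injective_lTensor_of_residueField u h) Q

/-- **Universal injectivity from generic points of fibres.** -/
theorem univInj_of_fibre [Algebra.FinitePresentation R S] [Module.Flat R S]
    (hgi : FlatCA.GeomIntegralFibres R S) {N : Type u} [AddCommGroup N] [Module S N]
    {r : ℕ} (α : (Fin r → S) →ₗ[S] N) (T₁ T₂ : Submonoid S)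
    (M' : Type u) [AddCommGroup M'] [Module S M'] [Module R M'] [IsScalarTower R S M']
    [Module.Flat R M'] (jN : N →ₗ[S] M') [IsLocalizedModule T₂ jN]
    (u : LocalizedModule T₁ (Fin r → S) →ₗ[S] M')
    (hu : ∀ y, u (LocalizedModule.mk y 1) = jN (α y))
    (H : ∀ (p : Ideal R) [p.IsPrime], (∃ a ∈ p, algebraMap R S a ∈ T₁) ∨
      ((∀ t ∈ T₂, (1 : p.ResidueField) ⊗ₜ[R] t ≠ 0) ∧
        Function.Injective (α.baseChange (FractionRing (p.Fiber S)))))
    (Q : Type u) [AddCommGroup Q] [Module R Q] :
    Function.Injective ((u.restrictScalars R).lTensor Q) := by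
  haveI : Module.Flat R (LocalizedModule T₁ (Fin r → S)) := flat_localized_pi T₁ r
  refine univInj_of_isLocalizedModule T₁ (Fin r → S)
    (LocalizedModule T₁ (Fin r → S)) (LocalizedModule.mkLinearMap T₁ (Fin r → S)) M'
    (u.restrictScalars R) ?_ Q
  intro p _
  rcases H p with ⟨a, hap, haT⟩ | ⟨hT₂, hinj⟩
  · -- the source fibre vanishes
    haveI : Subsingleton (p.ResidueField ⊗[R] LocalizedModule T₁ (Fin r → S)) := by
      refine subsingleton_of_forall_eq 0 (fun z => ?_)
      induction z using TensorProduct.induction_on with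
      | zero => rfl
      | tmul c x =>
        obtain ⟨x', hx'⟩ : ∃ x', x = a • x' := by
          refine ⟨LocalizedModule.divBy ⟨algebraMap R S a, haT⟩ x, ?_⟩
          rw [← algebraMap_smul S a]
          exact (LocalizedModule.mul_by_divBy ⟨algebraMap R S a, haT⟩ x).symm
        rw [hx', ← TensorProduct.smul_tmul, Algebra.smul_def,
          Ideal.algebraMap_residueField_eq_zero.mpr hap, zero_mul, TensorProduct.zero_tmul]
      | add z₁ z₂ h₁ h₂ => rw [h₁, h₂, add_zero]
    exact Function.injective_of_subsingleton _
  · haveI : IsDomain (p.Fiber S) := isDomain_fiber hgi p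
    have hunit : ∀ t : T₂,
        IsUnit (algebraMap S (Module.End S (FractionRing (p.Fiber S) ⊗[S] N)) t) :=
      fun t => isUnit_end_tensor _ N t.1 (isUnit_algebraMap_fractionRing p t.1 (hT₂ t.1 t.2))
    obtain ⟨ψ, hψ⟩ : ∃ ψ : M' →ₗ[S] FractionRing (p.Fiber S) ⊗[S] N,
        ∀ n, ψ (jN n) = (1 : FractionRing (p.Fiber S)) ⊗ₜ[S] n :=
      ⟨IsLocalizedModule.lift T₂ jN (TensorProduct.mk S (FractionRing (p.Fiber S)) N 1) hunit,
        fun n => IsLocalizedModule.lift_apply T₂ jN _ hunit n⟩
    -- the key claim on elements
    have key : ∀ x : LocalizedModule T₁ (Fin r → S), (1 : p.ResidueField) ⊗ₜ[R] (u x) = 0 →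
        (1 : p.ResidueField) ⊗ₜ[R] x = 0 := by
      intro x hx
      induction x using LocalizedModule.induction_on with
      | h y t =>
        have e : (t : S) • u (LocalizedModule.mk y t) = jN (α y) := by
          rw [← u.map_smul, LocalizedModule.smul'_mk, ← hu]
          congr 1
          exact LocalizedModule.mk_cancel t y
        have h1 : (1 : p.ResidueField) ⊗ₜ[R] jN (α y) = 0 := by
          rw [← e]
          have := congrArg
            (((LinearMap.lsmul S M' (t : S)).restrictScalars R).lTensor p.ResidueField) hx
          rwa [LinearMap.lTensor_tmul, map_zero, LinearMap.restrictScalars_apply,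
            LinearMap.lsmul_apply] at this
        have h2 : (1 : FractionRing (p.Fiber S)) ⊗ₜ[S] α y = 0 := by
          have := congrArg (LinearMap.liftBaseChange p.ResidueField (ψ.restrictScalars R)) h1
          rwa [LinearMap.liftBaseChange_tmul, one_smul, map_zero, LinearMap.restrictScalars_apply,
            hψ] at this
        have h3 : (1 : FractionRing (p.Fiber S)) ⊗ₜ[S] y = 0 := by
          apply hinj
          rw [LinearMap.baseChange_tmul, h2, map_zero]
        have h4 : ∀ i, (1 : p.ResidueField) ⊗ₜ[R] y i = 0 := by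
          intro i
          have h5 := algebraMap_eq_zero_of_one_tmul (FractionRing (p.Fiber S)) y h3 i
          rw [IsScalarTower.algebraMap_apply S (p.Fiber S) (FractionRing (p.Fiber S))] at h5
          exact (IsFractionRing.injective (p.Fiber S) (FractionRing (p.Fiber S)))
            (h5.trans (map_zero _).symm)
        have h6 : (1 : p.ResidueField) ⊗ₜ[R] y = 0 := one_tmul_pi_eq_zero _ y h4
        have h7 := congrArg ((((LocalizedModule.divBy t).comp
          (LocalizedModule.mkLinearMap T₁ (Fin r → S))).restrictScalars R).lTensor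
            p.ResidueField) h6
        have e2 : ((LocalizedModule.divBy t).comp
            (LocalizedModule.mkLinearMap T₁ (Fin r → S))) y = LocalizedModule.mk y t := by
          rw [LinearMap.comp_apply, LocalizedModule.mkLinearMap_apply,
            LocalizedModule.divBy_apply, LocalizedModule.liftOn_mk, one_mul]
        rw [LinearMap.lTensor_tmul, map_zero, LinearMap.restrictScalars_apply, e2] at h7
        exact h7
    rw [injective_iff_map_eq_zero]
    intro z hz
    obtain ⟨b, x, hb, rfl⟩ := exists_inv_tmul p z
    have hb0 : algebraMap R p.ResidueField b ≠ 0 :=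
      fun h => hb (Ideal.algebraMap_residueField_eq_zero.mp h)
    rw [LinearMap.lTensor_tmul, LinearMap.restrictScalars_apply] at hz
    have h1 : (1 : p.ResidueField) ⊗ₜ[R] u x = 0 := by
      have e : algebraMap R p.ResidueField b •
          ((algebraMap R p.ResidueField b)⁻¹ ⊗ₜ[R] u x) = (1 : p.ResidueField) ⊗ₜ[R] u x := by
        rw [TensorProduct.smul_tmul', smul_eq_mul, mul_inv_cancel₀ hb0]
      rw [← e, hz, smul_zero]
    have h2 := key x h1
    have e' : (algebraMap R p.ResidueField b)⁻¹ ⊗ₜ[R] x =
        (algebraMap R p.ResidueField b)⁻¹ • ((1 : p.ResidueField) ⊗ₜ[R] x) := by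
      rw [TensorProduct.smul_tmul', smul_eq_mul, mul_one]
    rw [e', h2, smul_zero]

end Fibre

end Groth.Agent.Helper7.FibBasis
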