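import Mathlib
import Groth.Prelude
import Groth.Agent.Lib.Helper7.FibBasis.Fibre

/-!
# helper7: the fibrewise basis criterion of flatness

For a flat finitely presented algebra `S` over `R` with geometrically integral fibres, a prime
`q` of `S` over `rr` and a finitely presented `S`-module `N` with a map `α` from a finite free
module inducing a bijection at the generic point of the fibre over `rr`: flatness of `N` at `q`
is equivalent to (universal) injectivity of localizations of `α` together with flatness of the
cokernel at `q`.
-/

set_option linter.style.haveILetI false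
set_option linter.unusedVariables false
set_option linter.unusedSectionVars false
set_option autoImplicit false
set_option backward.isDefEq.respectTransparency.types false
set_option synthInstance.maxHeartbeats 400000
set_option maxHeartbeats 1600000

universe u

open TensorProduct

namespace Groth.Agent.Helper7.FibBasis

attribute [local instance] Algebra.TensorProduct.rightAlgebra

section Main

variable {R S : Type u} [CommRing R] [CommRing S] [Algebra R S]

theorem map_le_of_liesOver (rr : Ideal R) (q : Ideal S) [q.LiesOver rr] :
    rr.map (algebraMap R S) ≤ q := by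
  rw [Ideal.map_le_iff_le_comap]
  exact (Ideal.LiesOver.over (p := rr) (P := q)).le

theorem mem_of_algebraMap_mem (rr : Ideal R) (q : Ideal S) [q.LiesOver rr] (a : R)
    (h : algebraMap R S a ∈ q) : a ∈ rr := by
  rw [Ideal.LiesOver.over (p := rr) (P := q)]
  exact h

theorem map_liesOver (rr : Ideal R) (q : Ideal S) [q.IsPrime] [q.LiesOver rr] :
    (rr.map (algebraMap R S)).LiesOver rr := by
  constructor
  apply le_antisymm
  · exact Ideal.le_comap_map
  · intro a ha
    exact mem_of_algebraMap_mem rr q a (map_le_of_liesOver rr q ha)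

theorem algebraMapSubmonoid_le (rr : Ideal R) [rr.IsPrime] (q : Ideal S) [q.IsPrime]
    [q.LiesOver rr] :
    Algebra.algebraMapSubmonoid S rr.primeCompl ≤ q.primeCompl := by
  rintro _ ⟨a, ha, rfl⟩ hmem
  exact ha (mem_of_algebraMap_mem rr q a hmem)

variable [Algebra.FinitePresentation R S] [Module.Flat R S]
  (hgi : FlatCA.GeomIntegralFibres R S) (rr : Ideal R) [rr.IsPrime]
  [(rr.map (algebraMap R S)).IsPrime] (q : Ideal S) [q.IsPrime] [q.LiesOver rr]
  (N : Type u) [AddCommGroup N] [Module S N] [Module R N] [IsScalarTower R S N]
  [Module.FinitePresentation S N] {r : ℕ} (α : (Fin r → S) →ₗ[S] N)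

/-- flatness at `q` forces `α` to be bijective at the generic point of the fibre -/
theorem localizedMap_bijective_of_flatAt
    (hα : Function.Bijective (α.baseChange (rr.map (algebraMap R S)).ResidueField))
    (h1 : Module.Flat R (LocalizedModule q.primeCompl N)) :
    Function.Bijective (LocalizedModule.map (rr.map (algebraMap R S)).primeCompl α) := by
  have hle : rr.map (algebraMap R S) ≤ q := map_le_of_liesOver rr q
  haveI : Module.Flat R (LocalizedModule (rr.map (algebraMap R S)).primeCompl N) :=
    Groth.Agent.Lead.FlatLoc.flat_localizedModule_prime_of_le (A := R) N q.primeCompl _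
      (fun x hx hmem => hx (hle hmem))
  have hsurj := localizedMap_surjective_of_baseChange (rr.map (algebraMap R S)) α hα.2
  refine ⟨?_, hsurj⟩
  refine injective_of_flat_of_ker (R := R)
    (LocalizedModule.map (rr.map (algebraMap R S)).primeCompl α) hsurj
    (Module.FinitePresentation.fg_ker _ hsurj) rr ?_ ?_
  · intro a ha
    rw [IsScalarTower.algebraMap_apply R S (Localization (rr.map (algebraMap R S)).primeCompl)]
    exact (IsLocalization.AtPrime.to_map_mem_maximal_iff _ (rr.map (algebraMap R S)) _).mpr
      (Ideal.mem_map_of_mem _ ha)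
  · intro x hx
    induction x using LocalizedModule.induction_on with
    | h y t =>
      rw [LocalizedModule.map_mk] at hx
      obtain ⟨s, hs⟩ : ∃ s : (rr.map (algebraMap R S)).primeCompl, (s : S) • α y = 0 := by
        have h0 := hx
        rw [← LocalizedModule.zero_mk t, LocalizedModule.mk_eq] at h0
        obtain ⟨c, hc⟩ := h0
        refine ⟨c * t, ?_⟩
        rw [smul_zero, smul_zero] at hc
        rw [Submonoid.coe_mul, mul_smul]
        exact hc
      have h2 : α ((s : S) • y) = 0 := by rw [map_smul]; exact hs
      have h3 : (1 : (rr.map (algebraMap R S)).ResidueField) ⊗ₜ[S] ((s : S) • y) = 0 := by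
        apply hα.1
        rw [LinearMap.baseChange_tmul, h2, TensorProduct.tmul_zero, map_zero]
      have h4 : ∀ i, y i ∈ rr.map (algebraMap R S) := by
        intro i
        have h5 := algebraMap_eq_zero_of_one_tmul _ _ h3 i
        rw [Ideal.algebraMap_residueField_eq_zero, Pi.smul_apply, smul_eq_mul] at h5
        exact (Ideal.IsPrime.mem_or_mem ‹_› h5).resolve_left s.2
      have h6 := mem_smul_top_pi rr y h4
      have h7 := Groth.Agent.Helper7.ProjFlat.map_mem_smul_top
        (((LocalizedModule.divBy t).comp (LocalizedModule.mkLinearMap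
          (rr.map (algebraMap R S)).primeCompl (Fin r → S))).restrictScalars R) rr y h6
      rw [LinearMap.restrictScalars_apply, LinearMap.comp_apply,
        LocalizedModule.mkLinearMap_apply, LocalizedModule.divBy_apply,
        LocalizedModule.liftOn_mk, one_mul] at h7
      exact h7

/-- flatness of the localized cokernel of a universally injective localized map into a flat
localization -/
theorem flat_coker_of_univInj (T : Submonoid S) [Module.Flat R (LocalizedModule T N)]
    (h : ∀ (Q : Type u) [AddCommGroup Q] [Module R Q],
      Function.Injective (((LocalizedModule.map T α).restrictScalars R).lTensor Q)) :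
    Module.Flat R (LocalizedModule T (N ⧸ LinearMap.range α)) :=
  flat_of_exact_of_univInj ((LocalizedModule.map T α).restrictScalars R)
    ((LocalizedModule.map T (LinearMap.range α).mkQ).restrictScalars R)
    (LocalizedModule.map_surjective T _ (Submodule.mkQ_surjective _))
    (LocalizedModule.map_exact T α _ (LinearMap.exact_map_mkQ_range α)) h

include hgi in
/-- flatness at `q` gives universal injectivity of `α` over a basic open of the base -/
theorem exists_univInj_away
    (hα : Function.Bijective (α.baseChange (rr.map (algebraMap R S)).ResidueField))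
    (h1 : Module.Flat R (LocalizedModule q.primeCompl N)) :
    ∃ f : R, f ∉ rr ∧ ∀ (Q : Type u) [AddCommGroup Q] [Module R Q], Function.Injective
      (((LocalizedModule.map (Submonoid.powers (algebraMap R S f)) α).restrictScalars R).lTensor
        Q) := by
  classical
  have hle : rr.map (algebraMap R S) ≤ q := map_le_of_liesOver rr q
  have hbij := localizedMap_bijective_of_flatAt rr q N α hα h1
  obtain ⟨h, hh𝔭, hhbij⟩ := exists_bijective_map_powers
    (rr.map (algebraMap R S)).primeCompl
    (LocalizedModule.mkLinearMap (rr.map (algebraMap R S)).primeCompl (Fin r → S))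
    (LocalizedModule.mkLinearMap (rr.map (algebraMap R S)).primeCompl N) α hbij
  obtain ⟨g, hgq, hgflat⟩ := exists_flat_away (R := R) N q h1
  have hg𝔭 : g ∉ rr.map (algebraMap R S) := fun hg => hgq (hle hg)
  have hw : g * h ∉ rr.map (algebraMap R S) :=
    fun hw => (Ideal.IsPrime.mem_or_mem ‹_› hw).elim hg𝔭 hh𝔭
  haveI := map_liesOver rr q
  obtain ⟨f, hfrr, hf⟩ := exists_basicOpen_subset_image (R := R) (g * h)
    (rr.map (algebraMap R S)) hw rr
  refine ⟨f, hfrr, ?_⟩
  obtain ⟨f', hf'⟩ : ∃ f' : S, f' = algebraMap R S f := ⟨_, rfl⟩
  rw [← hf']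
  haveI : Module.Flat R (LocalizedModule (Submonoid.powers (f' * (g * h))) N) := by
    apply Groth.Agent.Lead.FlatLoc.flat_localizedModule_of_forall_prime (A := R) N
    intro P _ hdisj
    have hgP : g ∉ P := fun hg => Set.disjoint_left.mp hdisj
      (show f' * (g * h) ∈ (P : Set S) from P.mul_mem_left f' (Ideal.mul_mem_right h P hg))
      (Submonoid.mem_powers _)
    haveI := hgflat
    exact Groth.Agent.Lead.FlatLoc.flat_localizedModule_prime_of_le (A := R) N
      (Submonoid.powers g) P (Submonoid.powers_le.mpr hgP)
  have hunits : ∀ x : Submonoid.powers f', IsUnit (algebraMap S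
      (Module.End S (LocalizedModule (Submonoid.powers (f' * (g * h))) N)) x) := by
    have h0 : IsUnit (algebraMap S
        (Module.End S (LocalizedModule (Submonoid.powers (f' * (g * h))) N)) (f' * (g * h))) :=
      IsLocalizedModule.map_units
        (LocalizedModule.mkLinearMap (Submonoid.powers (f' * (g * h))) N)
        ⟨_, Submonoid.mem_powers _⟩
    rw [map_mul] at h0
    have h2 := ((Algebra.commute_algebraMap_left f' _).isUnit_mul_iff.mp h0).1
    intro x
    obtain ⟨n, hn⟩ := (Submonoid.mem_powers_iff _ _).mp x.2
    rw [← hn, map_pow]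
    exact h2.pow n
  let j' : LocalizedModule (Submonoid.powers f') N →ₗ[S]
      LocalizedModule (Submonoid.powers (f' * (g * h))) N :=
    LocalizedModule.lift _ (LocalizedModule.mkLinearMap _ N) hunits
  have H : ∀ (p : Ideal R) [p.IsPrime], (∃ a ∈ p, algebraMap R S a ∈ Submonoid.powers f') ∨
      ((∀ t ∈ Submonoid.powers (f' * (g * h)), (1 : p.ResidueField) ⊗ₜ[R] t ≠ 0) ∧
        Function.Injective (α.baseChange (FractionRing (p.Fiber S)))) := by
    intro p _
    by_cases hfp : f ∈ p
    · exact Or.inl ⟨f, hfp, hf' ▸ Submonoid.mem_powers _⟩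
    · right
      obtain ⟨Q, hQ, hQp, hwQ⟩ := hf p hfp
      haveI := hQ
      haveI := hQp
      haveI : IsDomain (p.Fiber S) := isDomain_fiber hgi p
      have hf'Q : f' ∉ Q := by
        rw [hf']
        exact fun hmem => hfp (mem_of_algebraMap_mem p Q f hmem)
      have hhQ : h ∉ Q := fun hh => hwQ (Q.mul_mem_left g hh)
      constructor
      · intro t ht
        obtain ⟨n, rfl⟩ := (Submonoid.mem_powers_iff _ _).mp ht
        apply one_tmul_ne_zero p Q
        intro hmem
        rcases Ideal.IsPrime.mem_or_mem hQ (Ideal.IsPrime.mem_of_pow_mem hQ n hmem) with h' | h'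
        · exact hf'Q h'
        · exact hwQ h'
      · apply baseChange_injective_of_bijective α (Submonoid.powers h) (hhbij h (dvd_refl h))
        intro t ht
        obtain ⟨n, rfl⟩ := (Submonoid.mem_powers_iff _ _).mp ht
        apply isUnit_algebraMap_fractionRing p
        apply one_tmul_ne_zero p Q
        exact fun hmem => hhQ (Ideal.IsPrime.mem_of_pow_mem hQ n hmem)
  intro Q' _ _
  have h5 := univInj_of_fibre hgi α (Submonoid.powers f') (Submonoid.powers (f' * (g * h)))
    (LocalizedModule (Submonoid.powers (f' * (g * h))) N) (LocalizedModule.mkLinearMap _ N)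
    (j' ∘ₗ ((LocalizedModule.map (Submonoid.powers f') α).restrictScalars S))
    (fun y => by
      rw [LinearMap.comp_apply, LinearMap.restrictScalars_apply, LocalizedModule.map_mk]
      show LocalizedModule.lift _ (LocalizedModule.mkLinearMap _ N) hunits
        (LocalizedModule.mk (α y) 1) = _
      rw [LocalizedModule.lift_mk_one]) H Q'
  have hfac : ((j' ∘ₗ ((LocalizedModule.map (Submonoid.powers f') α).restrictScalars S)).restrictScalars
      R) = (j'.restrictScalars R) ∘ₗ
        ((LocalizedModule.map (Submonoid.powers f') α).restrictScalars R) := rfl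
  rw [hfac, LinearMap.lTensor_comp, LinearMap.coe_comp] at h5
  exact Function.Injective.of_comp h5

include hgi in
/-- **The fibrewise basis criterion of flatness.** -/
theorem main :
    (∃ (r : ℕ) (α : (Fin r → S) →ₗ[S] N),
      Function.Bijective (α.baseChange (rr.map (algebraMap R S)).ResidueField)) ∧
    ∀ (r : ℕ) (α : (Fin r → S) →ₗ[S] N),
      Function.Bijective (α.baseChange (rr.map (algebraMap R S)).ResidueField) →
      [FlatCA.FlatAt R q N,
       (∃ f : R, f ∉ rr ∧ FlatCA.UnivInj R ((LocalizedModule.map
          (Submonoid.powers (algebraMap R S f)) α).restrictScalars R)) ∧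
         (∃ g : S, g ∉ q ∧ Module.Flat R
          (LocalizedModule (Submonoid.powers g) (N ⧸ LinearMap.range α))),
       FlatCA.UnivInj R ((LocalizedModule.map (Algebra.algebraMapSubmonoid S rr.primeCompl)
          α).restrictScalars R) ∧ FlatCA.FlatAt R q (N ⧸ LinearMap.range α),
       Function.Injective (LocalizedModule.map (Algebra.algebraMapSubmonoid S rr.primeCompl) α) ∧
          FlatCA.FlatAt R q (N ⧸ LinearMap.range α),
       Function.Bijective (LocalizedModule.map (rr.map (algebraMap R S)).primeCompl α) ∧
          FlatCA.FlatAt R q (N ⧸ LinearMap.range α),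
       Function.Injective (LocalizedModule.map q.primeCompl α) ∧
          FlatCA.FlatAt R q (N ⧸ LinearMap.range α)].TFAE := by
  refine ⟨exists_bijective_baseChange (rr.map (algebraMap R S)) N, ?_⟩
  intro r α hα
  have hle : rr.map (algebraMap R S) ≤ q := map_le_of_liesOver rr q
  have hTq : Algebra.algebraMapSubmonoid S rr.primeCompl ≤ q.primeCompl :=
    algebraMapSubmonoid_le rr q
  have hq𝔭 : q.primeCompl ≤ (rr.map (algebraMap R S)).primeCompl :=
    fun x hx hmem => hx (hle hmem)
  have hT𝔭 : Algebra.algebraMapSubmonoid S rr.primeCompl ≤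
      (rr.map (algebraMap R S)).primeCompl := hTq.trans hq𝔭
  tfae_have 1 → 2 := by
    intro h1
    obtain ⟨f, hf, hUf⟩ := exists_univInj_away hgi rr q N α hα h1
    refine ⟨⟨f, hf, hUf⟩, ?_⟩
    have hf'q : Submonoid.powers (algebraMap R S f) ≤ q.primeCompl :=
      Submonoid.powers_le.mpr (fun hmem => hf (mem_of_algebraMap_mem rr q f hmem))
    have hUq := univInj_localization α _ q.primeCompl hf'q hUf
    haveI : Module.Flat R (LocalizedModule q.primeCompl N) := h1
    have hCq : Module.Flat R (LocalizedModule q.primeCompl (N ⧸ LinearMap.range α)) :=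
      flat_coker_of_univInj N α q.primeCompl hUq
    haveI : Module.FinitePresentation S (N ⧸ LinearMap.range α) :=
      Module.finitePresentation_of_surjective (LinearMap.range α).mkQ
        (Submodule.mkQ_surjective _) (by
          rw [Submodule.ker_mkQ, LinearMap.range_eq_map]
          exact Submodule.FG.map α Module.Finite.fg_top)
    exact exists_flat_away (R := R) (N ⧸ LinearMap.range α) q hCq
  tfae_have 2 → 3 := by
    rintro ⟨⟨f, hf, hUf⟩, ⟨g, hg, hCg⟩⟩
    refine ⟨?_, ?_⟩
    · intro Q _ _
      exact univInj_localization α (Submonoid.powers (algebraMap R S f))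
        (Algebra.algebraMapSubmonoid S rr.primeCompl)
        (Submonoid.powers_le.mpr ⟨f, hf, rfl⟩) hUf Q
    · haveI := hCg
      exact Groth.Agent.Lead.FlatLoc.flat_localizedModule_prime_of_le (A := R)
        (N ⧸ LinearMap.range α) (Submonoid.powers g) q (Submonoid.powers_le.mpr hg)
  tfae_have 3 → 4 := fun ⟨hU, hC⟩ => ⟨injective_of_lTensor
    ((LocalizedModule.map (Algebra.algebraMapSubmonoid S rr.primeCompl) α).restrictScalars R)
    (hU R), hC⟩
  tfae_have 4 → 5 := by
    rintro ⟨hinj, hC⟩
    exact ⟨⟨injective_localization α _ _ hT𝔭 hinj,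
      localizedMap_surjective_of_baseChange _ α hα.2⟩, hC⟩
  tfae_have 5 → 6 := by
    rintro ⟨hbij, hC⟩
    refine ⟨?_, hC⟩
    have H : ∀ (p : Ideal R) [p.IsPrime], (∃ a ∈ p, algebraMap R S a ∈ q.primeCompl) ∨
        ((∀ t ∈ (rr.map (algebraMap R S)).primeCompl, (1 : p.ResidueField) ⊗ₜ[R] t ≠ 0) ∧
          Function.Injective ((LinearMap.id : (Fin r → S) →ₗ[S] (Fin r → S)).baseChange
            (FractionRing (p.Fiber S)))) := by
      intro p _
      by_cases hp : p ≤ rr
      · right
        haveI := map_liesOver rr q
        obtain ⟨Q', hQ'le, hQ', hQ'p⟩ := exists_le_liesOver p rr hp (rr.map (algebraMap R S))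
        haveI := hQ'
        haveI := hQ'p
        refine ⟨fun t ht => one_tmul_ne_zero p Q' t (fun hmem => ht (hQ'le hmem)), ?_⟩
        rw [LinearMap.baseChange_id]
        exact Function.injective_id
      · left
        obtain ⟨a, hap, harr⟩ := SetLike.not_le_iff_exists.mp hp
        exact ⟨a, hap, fun hmem => harr (mem_of_algebraMap_mem rr q a hmem)⟩
    have hj : Function.Injective (LocalizedModule.liftOfLE (M := Fin r → S) q.primeCompl
        (rr.map (algebraMap R S)).primeCompl hq𝔭) := by
      haveI : Module.Flat R (LocalizedModule (rr.map (algebraMap R S)).primeCompl (Fin r → S)) :=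
        flat_localized_pi _ r
      have hU := univInj_of_fibre hgi (LinearMap.id : (Fin r → S) →ₗ[S] (Fin r → S))
        q.primeCompl (rr.map (algebraMap R S)).primeCompl
        (LocalizedModule (rr.map (algebraMap R S)).primeCompl (Fin r → S))
        (LocalizedModule.mkLinearMap _ _)
        (LocalizedModule.liftOfLE q.primeCompl (rr.map (algebraMap R S)).primeCompl hq𝔭)
        (fun y => by rw [liftOfLE_mk]; rfl) H R
      exact injective_of_lTensor ((LocalizedModule.liftOfLE (M := Fin r → S) q.primeCompl
        (rr.map (algebraMap R S)).primeCompl hq𝔭).restrictScalars R) hU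
    intro x y hxy
    apply hj
    apply hbij.1
    rw [map_liftOfLE, map_liftOfLE, hxy]
  tfae_have 6 → 1 := by
    rintro ⟨hinj, hC⟩
    haveI : Module.Flat R (LocalizedModule q.primeCompl (Fin r → S)) := flat_localized_pi _ r
    haveI : Module.Flat R (LocalizedModule q.primeCompl (N ⧸ LinearMap.range α)) := hC
    exact Groth.Agent.Helper4.FlatExact.flat_of_exact
      ((LocalizedModule.map q.primeCompl α).restrictScalars R)
      ((LocalizedModule.map q.primeCompl (LinearMap.range α).mkQ).restrictScalars R)
      hinj (LocalizedModule.map_surjective _ _ (Submodule.mkQ_surjective _))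
      (LocalizedModule.map_exact q.primeCompl α _ (LinearMap.exact_map_mkQ_range α))
  tfae_finish

end Main

end Groth.Agent.Helper7.FibBasis
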